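import Groth.Agent.PicAux.GenLocusAffine
import Groth.Agent.PicAux.InverseInvertible
import Groth.Agent.ValReduced.Scheme

/-! Sections of invertible modules over a valuation ring and the closed fibre. -/

set_option autoImplicit false
set_option linter.style.haveILetI false
universe u

open CategoryTheory AlgebraicGeometry TopologicalSpace IsLocalRing

namespace Groth.Misc12.ValTrivial

open Groth.PicAux
open Groth.Agent

variable {A : Type u} [CommRing A] {X : Scheme.{u}} (f : X ⟶ Spec (CommRingCat.of A))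

/-- The structure map into the sections over an open. -/
noncomputable def secMap (V : X.Opens) : A →+* Γ(X, V) :=
  (resX X (le_top : V ≤ ⊤)).comp (Coh.toGlobal f)

lemma resX_secMap {V W : X.Opens} (h : W ≤ V) (a : A) : resX X h (secMap f V a) = secMap f W a :=
  resX_resX _ _ _

lemma secMap_top (a : A) : secMap f ⊤ a = Coh.toGlobal f a := resX_self _ _

lemma appLE_comp (V : X.Opens) :
    (f.appLE ⊤ V le_top).hom.comp (Scheme.ΓSpecIso (CommRingCat.of A)).inv.hom = secMap f V := rfl

lemma basicOpen_secMap (V : X.Opens) (a : A) :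
    X.basicOpen (secMap f V a) = V ⊓ f ⁻¹ᵁ PrimeSpectrum.basicOpen a := by
  have h : (Spec (CommRingCat.of A)).basicOpen ((Scheme.ΓSpecIso (CommRingCat.of A)).inv a) =
      PrimeSpectrum.basicOpen a := by rw [basicOpen_eq_of_affine']; simp
  rw [← h, Scheme.preimage_basicOpen]
  exact X.basicOpen_res _ (homOfLE (le_top : V ≤ ⊤)).op

lemma fromSpec_mem_basicOpen {V : X.Opens} (hV : IsAffineOpen V) (p : PrimeSpectrum Γ(X, V))
    (c : Γ(X, V)) : hV.fromSpec.base p ∈ X.basicOpen c ↔ c ∉ p.asIdeal := by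
  show p ∈ hV.fromSpec ⁻¹ᵁ X.basicOpen c ↔ _
  rw [hV.fromSpec_preimage_basicOpen]
  rfl

lemma map_primeIdealOf (V : X.Opens) (y : ↥(Spec (CommRingCat.of A))) :
    ((isAffineOpen_top (Spec (CommRingCat.of A))).primeIdealOf ⟨y, trivial⟩).asIdeal.map
      (f.appLE ⊤ V le_top).hom = y.asIdeal.map (secMap f V) := by
  set P := ((isAffineOpen_top (Spec (CommRingCat.of A))).primeIdealOf ⟨y, trivial⟩) with hP
  let i := (Scheme.ΓSpecIso (CommRingCat.of A)).inv.hom
  have hi : Function.Surjective i :=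
    (ConcreteCategory.bijective_of_isIso (Scheme.ΓSpecIso (CommRingCat.of A)).inv).2
  have hc : P.asIdeal.comap i = y.asIdeal := by
    ext a
    rw [Ideal.mem_comap, ← not_iff_not, ← fromSpec_mem_basicOpen, hP,
      (isAffineOpen_top (Spec (CommRingCat.of A))).fromSpec_primeIdealOf, basicOpen_eq_of_affine']
    · simp [i]; rfl
    · exact isAffineOpen_top _
  rw [← Ideal.map_comap_of_surjective i hi P.asIdeal, hc, Ideal.map_map]
  rfl

section Valuation

variable [IsDomain A] [ValuationRing A]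

lemma eq_closedPoint_of_le {y : ↥(Spec (CommRingCat.of A))} (h : maximalIdeal A ≤ y.asIdeal) :
    y = closedPoint A :=
  PrimeSpectrum.ext ((le_maximalIdeal y.2.ne_top).antisymm h)

/-- A section vanishing on the reduced closed fibre lies in the extension of the maximal ideal. -/
theorem mem_map_maximalIdeal (hred : AlgebraicGeometry.IsReduced (f.fiber (closedPoint A))) {V : X.Opens}
    (hV : IsAffineOpen V) (c : Γ(X, V))
    (h : ∀ x ∈ V, f.base x = closedPoint A → x ∉ X.basicOpen c) :
    c ∈ (maximalIdeal A).map (secMap f V) := by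
  set I := (maximalIdeal A).map (secMap f V) with hI
  have hcl : ∀ p : PrimeSpectrum Γ(X, V), I ≤ p.asIdeal →
      f.base (hV.fromSpec.base p) = closedPoint A := fun p hp => by
    refine eq_closedPoint_of_le fun a ha => ?_
    by_contra ha'
    have hmem : hV.fromSpec.base p ∈ X.basicOpen (secMap f V a) := by
      rw [basicOpen_secMap]
      exact ⟨hV.range_fromSpec.le ⟨p, rfl⟩, ha'⟩
    exact (fromSpec_mem_basicOpen hV p _).1 hmem (hp (Ideal.mem_map_of_mem _ ha))
  have hrad : c ∈ I.radical := by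
    rw [Ideal.radical_eq_sInf, Submodule.mem_sInf]
    rintro q ⟨hq, hqp⟩
    by_contra hc
    exact h _ (hV.range_fromSpec.le ⟨⟨q, hqp⟩, rfl⟩) (hcl ⟨q, hqp⟩ hq)
      ((fromSpec_mem_basicOpen hV ⟨q, hqp⟩ c).2 hc)
  by_contra hcI
  let J : Ideal Γ(X, V) := Submodule.comap (LinearMap.toSpanSingleton _ _ c) I
  have hJ : J ≠ ⊤ := fun hh => hcI (by
    have h1 : (1 : Γ(X, V)) ∈ J := hh ▸ Submodule.mem_top
    simpa [J] using h1)
  obtain ⟨q, hq, hJq⟩ := J.exists_le_maximal hJ
  have hIJ : I ≤ J := fun r hr => by simpa [J] using I.mul_mem_right c hr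
  let p : PrimeSpectrum Γ(X, V) := ⟨q, hq.isPrime⟩
  let x := hV.fromSpec.base p
  have hxV : x ∈ V := hV.range_fromSpec.le ⟨p, rfl⟩
  have hx : f.base x = closedPoint A := hcl p (hIJ.trans hJq)
  haveI : AlgebraicGeometry.IsReduced (f.fiber (f.base x)) := hx ▸ hred
  have hR := (ValReduced.isReduced_fiber_stalk_iff f (isAffineOpen_top _) hV le_top _ (f.asFiber x) x hxV
    (f.fiberι_asFiber x)).mp inferInstance
  rw [map_primeIdealOf, hx] at hR
  have hp : hV.primeIdealOf ⟨x, hxV⟩ = p :=
    hV.fromSpec.isOpenEmbedding.injective (hV.fromSpec_primeIdealOf ⟨x, hxV⟩)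
  rw [hp] at hR
  obtain ⟨n, hn⟩ := Ideal.mem_radical_iff.1 hrad
  obtain ⟨w, hw, hwc⟩ := hR c n ⟨1, q.ne_top_iff_one.1 hq.ne_top, by rw [one_mul]; exact hn⟩
  exact hw (hJq (Submodule.mem_comap.2 hwc))

/-- An element of an extended ideal is divisible by an element of the ideal. -/
theorem exists_dvd_of_mem_map {R : Type u} [CommRing R] (φ : A →+* R) {I : Ideal A} {c : R}
    (hc : c ∈ I.map φ) : ∃ a ∈ I, φ a ∣ c := by
  induction hc using Submodule.span_induction with
  | mem x hx => obtain ⟨a, ha, rfl⟩ := hx; exact ⟨a, ha, dvd_rfl⟩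
  | zero => exact ⟨0, I.zero_mem, dvd_zero _⟩
  | add x y _ _ hx hy =>
    obtain ⟨a, ha, hax⟩ := hx
    obtain ⟨b, hb, hby⟩ := hy
    rcases ValuationRing.dvd_total a b with h | h
    · exact ⟨a, ha, dvd_add hax ((map_dvd φ h).trans hby)⟩
    · exact ⟨b, hb, dvd_add ((map_dvd φ h).trans hax) hby⟩
  | smul r x _ hx =>
    obtain ⟨a, ha, hax⟩ := hx
    exact ⟨a, ha, hax.mul_left r⟩

/-- Nonzero scalars are regular on the functions of a flat scheme. -/
theorem secMap_regular [Flat f] (V : X.Opens) {a : A} (ha : a ≠ 0) {y : Γ(X, V)}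
    (h : secMap f V a * y = 0) : y = 0 := by
  refine res_ext (M := Coh.structureModule X) (fun W : {W : X.affineOpens // W.1 ≤ V} => W.1.1)
    (fun W => W.2) ?_ fun W => ?_
  · intro x hx
    obtain ⟨W, hW, hxW, hWV⟩ := exists_isAffineOpen_mem_and_subset (X := X) (x := x) hx
    exact Opens.mem_iSup.2 ⟨⟨⟨W, hW⟩, hWV⟩, hxW⟩
  · obtain ⟨⟨W, hW⟩, hWV⟩ := W
    show resX X hWV y = resX X hWV 0
    rw [map_zero]
    have h' := congrArg (resX X hWV) h
    rw [map_mul, map_zero, resX_secMap] at h'
    letI := (secMap f W).toAlgebra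
    have hflat : (secMap f W).Flat := by
      rw [← appLE_comp]
      exact RingHom.Flat.comp (RingHom.Flat.of_bijective (ConcreteCategory.bijective_of_isIso _))
        (Flat.flat_appLE f (isAffineOpen_top _) hW le_top)
    haveI : Module.Flat A Γ(X, W) := hflat
    exact (Module.Flat.isSMulRegular_of_nonZeroDivisors (M := Γ(X, W)) (mem_nonZeroDivisors_of_ne_zero ha)
      ).right_eq_zero_of_smul (h' : a • resX X hWV y = 0) 

/-- A generator of the sections does not vanish on the closed fibre. -/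
theorem exists_closed_mem_genLocus [IsProper f] [Flat f]
    (hred : AlgebraicGeometry.IsReduced (f.fiber (closedPoint A))) {L : X.Modules} (hL : PicF.IsInvertible L)
    (s : Γ(L, ⊤)) (hs : s ≠ 0) (hgen : ∀ t : Γ(L, ⊤), ∃ a : A, t = secMap f ⊤ a • s) :
    ∃ x, f.base x = closedPoint A ∧ x ∈ CohB1.genLocus L (homOfSection s) := by
  classical
  by_contra! hno
  haveI : CompactSpace X := HasAffineProperty.iff_of_isAffine (P := @QuasiCompact).1
    (inferInstance : QuasiCompact f)
  choose U e hU hxU he using exists_affine_gen_mem hL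
  choose c hc using fun x => (he x).exists_coeff le_rfl (res L (le_top : U x ≤ ⊤) s)
  simp only [res_self] at hc
  obtain ⟨S, hS⟩ := isCompact_univ.elim_finite_subcover (fun x => (U x : Set X))
    (fun x => (U x).2) fun x _ => Set.mem_iUnion.2 ⟨x, hxU x⟩
  have hdvd : ∀ x, ∃ a ∈ maximalIdeal A, secMap f (U x) a ∣ c x := fun x => by
    refine exists_dvd_of_mem_map _ (mem_map_maximalIdeal f hred (hU x) (c x) fun z hz hzc hm => ?_)
    rw [← genLocus_inf_eq_basicOpen (he x) (s := homOfSection s) (by rw [gsec_homOfSection]; exact hc x)]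
      at hm
    exact hno z hzc hm.1
  choose av hav hadvd using hdvd
  obtain ⟨a, ha, hall⟩ : ∃ a ∈ maximalIdeal A, ∀ x ∈ S, a ∣ av x := by
    clear hS
    induction S using Finset.induction_on with
    | empty => exact ⟨0, zero_mem _, by simp⟩
    | insert x S _ ih =>
      obtain ⟨b, hb, hball⟩ : ∃ b ∈ maximalIdeal A, ∀ x ∈ S, b ∣ av x := ih
      rcases ValuationRing.dvd_total b (av x) with h | h
      · exact ⟨b, hb, fun y hy => by
          rcases Finset.mem_insert.1 hy with rfl | hy
          exacts [h, hball y hy]⟩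
      · exact ⟨av x, hav x, fun y hy => by
          rcases Finset.mem_insert.1 hy with rfl | hy
          exacts [dvd_rfl, h.trans (hball y hy)]⟩
  have hcov : (⊤ : X.Opens) ≤ ⨆ x : S, U x := fun z _ => by
    obtain ⟨i, hi, hzi⟩ := Set.mem_iUnion₂.1 (hS (Set.mem_univ z))
    exact Opens.mem_iSup.2 ⟨⟨i, hi⟩, hzi⟩
  have hdiv : ∀ x : S, ∃ r, c x = secMap f (U x) a * r := fun x =>
    (map_dvd _ (hall x x.2)).trans (hadvd x)
  choose r hr using hdiv
  refine hs ?_
  rcases eq_or_ne a 0 with rfl | ha0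
  · refine res_ext (M := L) (fun x : S => U x) (fun x => le_top) hcov fun x => ?_
    rw [res_zero, hc, hr, map_zero, zero_mul, zero_smul]
  obtain ⟨s', hs', -⟩ := res_glue (M := L) (fun x : S => U x) (fun x => le_top) hcov
    (fun x => r x • e x) fun i j => by
      obtain ⟨q, hq⟩ := (he i).exists_coeff (inf_le_left : U i ⊓ U j ≤ U i)
        (res L (inf_le_right : U i ⊓ U j ≤ U j) (r j • e j))
      have h1 := congrArg (res L (inf_le_left : U i ⊓ U j ≤ U i)) (hc i)
      have h2 := congrArg (res L (inf_le_right : U i ⊓ U j ≤ U j)) (hc j)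
      rw [res_res] at h1 h2
      rw [h2, hr i, hr j, res_smul, res_smul, map_mul, map_mul, resX_secMap, resX_secMap, mul_smul,
        mul_smul, ← res_smul (inf_le_right : U i ⊓ U j ≤ U j) (r j), hq, ← mul_smul, ← mul_smul] at h1
      have h3 := (he i).smul_inj inf_le_left h1
      rw [hq, res_smul]
      congr 1
      exact (sub_eq_zero.1 (secMap_regular f _ ha0 (by rw [mul_sub, h3, sub_self]))).symm
  have hss : s = secMap f ⊤ a • s' := res_ext (M := L) (fun x : S => U x) (fun x => le_top) hcov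
    fun x => by rw [res_smul, hs' x, hc, hr, mul_smul, resX_secMap]
  obtain ⟨d, hd⟩ := hgen s'
  rw [hd, ← mul_smul, ← map_mul] at hss
  have hu : IsUnit (1 - a * d) :=
    isUnit_one_sub_self_of_mem_nonunits _ fun h => (mem_maximalIdeal a).1 ha (isUnit_of_mul_isUnit_left h)
  refine (hu.map (secMap f ⊤)).smul_eq_zero.1 ?_
  rw [map_sub, map_one, sub_smul, one_smul, ← hss, sub_self]

/-- A unit pairing on the closed fibre makes the sections generators. -/
theorem exists_iso_of_pairing [IsProper f] [Flat f] {L N : X.Modules}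
    (φ : CohB1.tensorMod L N ≅ Coh.structureModule X) (s : Γ(L, ⊤)) (t : Γ(N, ⊤)) (a : A)
    (ha : Coh.toGlobal f a = pairing φ.hom s t) {x : X} (hx : f.base x = closedPoint A)
    (hxs : x ∈ CohB1.genLocus L (homOfSection s)) (hxt : x ∈ CohB1.genLocus N (homOfSection t)) :
    Nonempty (L ≅ Coh.structureModule X) := by
  set W := CohB1.genLocus L (homOfSection s) ⊓ CohB1.genLocus N (homOfSection t)
  have h1 := (le_genLocus_iff (L := L) (homOfSection s) W).1 inf_le_left
  have h2 := (le_genLocus_iff (L := N) (homOfSection t) W).1 inf_le_right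
  rw [gsec_homOfSection] at h1 h2
  have h3 := (h1.tensor h2).map φ.hom
  rw [eq_toFun_smul_oneSec (φ.hom.app W (tmulSec _ _))] at h3
  have hu : IsUnit (pairing φ.hom (res L (le_top : W ≤ ⊤) s) (res N (le_top : W ≤ ⊤) t)) :=
    Gen.isUnit_of_smul (gen_oneSec W) h3
  rw [← resX_pairing, ← ha] at hu
  have hb : X.basicOpen (secMap f W a) = W := X.basicOpen_of_isUnit hu
  rw [basicOpen_secMap] at hb
  have hmem : f.base x ∈ PrimeSpectrum.basicOpen a := (hb.ge ⟨hxs, hxt⟩).2
  rw [hx] at hmem
  obtain ⟨u, rfl⟩ : IsUnit a := IsLocalRing.notMem_maximalIdeal.1 hmem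
  refine nonempty_iso_structure_iff.2 ⟨secMap f ⊤ ↑u⁻¹ • s, gen_of_pairing_eq_one φ _ t ?_⟩
  rw [pairing, tmulSec_smul_left, Scheme.Modules.Hom.app_smul, toFun_smul]
  show _ * pairing φ.hom s t = 1
  rw [← ha, ← secMap_top, ← map_mul, Units.inv_mul, map_one]

end Valuation

end Groth.Misc12.ValTrivial
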