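import Mathlib

/-! Homomorphisms from a finite module into a valuation ring. -/

set_option autoImplicit false
set_option linter.style.haveILetI false
universe u

namespace Groth.Misc12.ValTrivial

/-- If the homomorphisms into the fraction field form a line, those into the valuation ring are cyclic. -/
theorem exists_hom_generator {A₀ A K : Type u} [CommRing A₀] [CommRing A] [IsDomain A] [ValuationRing A]
    [Field K] [Algebra A₀ A] [Algebra A K] [Algebra A₀ K] [IsScalarTower A₀ A K] [IsFractionRing A K]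
    {Q : Type u} [AddCommGroup Q] [Module A₀ Q] [Module.Finite A₀ Q]
    (ψ : Q →ₗ[A₀] K) (hψ : ψ ≠ 0) (h1 : ∀ φ : Q →ₗ[A₀] K, ∃ b : K, φ = LinearMap.mulLeft A₀ b ∘ₗ ψ) :
    ∃ φ₀ : Q →ₗ[A₀] A, φ₀ ≠ 0 ∧ ∀ φ : Q →ₗ[A₀] A, ∃ a : A, φ = LinearMap.mulLeft A₀ a ∘ₗ φ₀ := by
  classical
  obtain ⟨n, q, hq⟩ := Module.Finite.exists_fin (R := A₀) (M := Q)
  have hinj : Function.Injective (algebraMap A K) := IsFractionRing.injective A K
  obtain ⟨⟨d, hd⟩, hint⟩ := IsLocalization.exist_integer_multiples (nonZeroDivisors A) Finset.univ fun i => ψ (q i)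
  have hd0 : algebraMap A K d ≠ 0 :=
    (map_ne_zero_iff _ hinj).2 (nonZeroDivisors.ne_zero hd)
  let v : Fin n → A := fun i => (hint i (Finset.mem_univ i)).choose
  have hv : ∀ i, algebraMap A K (v i) = algebraMap A K d * ψ (q i) := fun i => by
    rw [(hint i (Finset.mem_univ i)).choose_spec]
    simp [Algebra.smul_def]
  obtain ⟨i₀, hi₀⟩ : ∃ i, v i ≠ 0 := by
    by_contra! h
    refine hψ (LinearMap.ext_on_range hq fun i => ?_)
    have := hv i
    rw [h i, map_zero, eq_comm, mul_eq_zero] at this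
    exact this.resolve_left hd0
  have hmin : ∀ s : Finset (Fin n), s.Nonempty → ∃ i ∈ s, ∀ j ∈ s, v i ∣ v j := by
    intro s hs
    induction hs using Finset.Nonempty.cons_induction with
    | singleton i => exact ⟨i, by simp, by simp⟩
    | cons i s hi _ ih =>
      obtain ⟨j, hj, hjd⟩ := ih
      rcases ValuationRing.dvd_total (v i) (v j) with hdv | hdv
      · refine ⟨i, by simp, fun k hk => ?_⟩
        rcases Finset.mem_cons.1 hk with rfl | hk
        · exact dvd_rfl
        · exact hdv.trans (hjd k hk)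
      · refine ⟨j, by simp [hj], fun k hk => ?_⟩
        rcases Finset.mem_cons.1 hk with rfl | hk
        · exact hdv
        · exact hjd k hk
  obtain ⟨j, -, hj⟩ := hmin Finset.univ ⟨i₀, Finset.mem_univ _⟩
  have hj0 : v j ≠ 0 := fun h => hi₀ (zero_dvd_iff.1 (h ▸ hj i₀ (Finset.mem_univ _)))
  have hψj : ψ (q j) ≠ 0 := fun h => hj0 (hinj (by rw [hv, h, mul_zero, map_zero]))
  let ψ₀ : Q →ₗ[A₀] K := LinearMap.mulLeft A₀ (ψ (q j))⁻¹ ∘ₗ ψ
  let ι : A →ₗ[A₀] K := (IsScalarTower.toAlgHom A₀ A K).toLinearMap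
  have hι : Function.Injective ι := hinj
  have hrange : ∀ x, ψ₀ x ∈ LinearMap.range ι := by
    intro x
    have hx : x ∈ Submodule.span A₀ (Set.range q) := hq ▸ Submodule.mem_top
    induction hx using Submodule.span_induction with
    | mem x hx =>
      obtain ⟨i, rfl⟩ := hx
      obtain ⟨w, hw⟩ := hj i (Finset.mem_univ _)
      refine ⟨w, mul_left_cancel₀ (show algebraMap A K (v j) ≠ 0 from (map_ne_zero_iff _ hinj).2 hj0) ?_⟩
      show algebraMap A K (v j) * algebraMap A K w = algebraMap A K (v j) * ((ψ (q j))⁻¹ * ψ (q i))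
      rw [← map_mul, ← hw, hv, hv, mul_assoc, mul_inv_cancel_left₀ hψj]
    | zero => exact zero_mem _ |> fun h => by rw [map_zero]; exact h
    | add x y _ _ hx hy => rw [map_add]; exact add_mem hx hy
    | smul a x _ hx => rw [map_smul]; exact Submodule.smul_mem _ a hx
  let φ₀ : Q →ₗ[A₀] A := (LinearEquiv.ofInjective ι hι).symm.toLinearMap ∘ₗ ψ₀.codRestrict _ hrange
  have hφ₀ : ∀ x, algebraMap A K (φ₀ x) = ψ₀ x := fun x => by
    have := (LinearEquiv.ofInjective ι hι).apply_symm_apply ⟨ψ₀ x, hrange x⟩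
    exact congrArg Subtype.val this
  have hone : φ₀ (q j) = 1 := hinj (by
    rw [hφ₀, map_one]
    exact inv_mul_cancel₀ hψj)
  refine ⟨φ₀, fun h => one_ne_zero (hone.symm.trans (by rw [h]; rfl)), fun φ => ⟨φ (q j), ?_⟩⟩
  obtain ⟨b, hb⟩ := h1 (ι ∘ₗ φ)
  have hbj : algebraMap A K (φ (q j)) = b * ψ (q j) := LinearMap.congr_fun hb (q j)
  refine LinearMap.ext fun x => hinj ?_
  have hbx : algebraMap A K (φ x) = b * ψ x := LinearMap.congr_fun hb x
  show algebraMap A K (φ x) = algebraMap A K (φ (q j) * φ₀ x)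
  rw [map_mul, hφ₀, hbx, hbj]
  show b * ψ x = b * ψ (q j) * ((ψ (q j))⁻¹ * ψ x)
  rw [mul_assoc, mul_inv_cancel_left₀ hψj]

end Groth.Misc12.ValTrivial
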