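import Groth.Agent.Misc12.ValTrivial.Closed
import Groth.Agent.Misc12.ValTrivial.Hom
import Groth.Agent.LimitMod.ProperFlatModel
import Groth.Agent.PicAux.BaseChangeModel
import Groth.Agent.PicAux.SeesawReduced
import Groth.Agent.PicAux.FibTrivClosed

/-! Global sections of an invertible module on a proper flat scheme over a valuation ring. -/

set_option autoImplicit false
set_option linter.style.haveILetI false
universe u

open CategoryTheory Limits AlgebraicGeometry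

namespace Groth.Misc12.ValTrivial

open Groth.SpectralTopology Groth.LimitMod

variable {A : Type u} [CommRing A] [IsDomain A] [ValuationRing A] {X : Scheme.{u}}
  (f : X ⟶ Spec (CommRingCat.of A))

lemma bSec_top {B : Type u} [CommRing B] {Y : Scheme.{u}} (h : Y ⟶ Spec (CommRingCat.of B)) (b : B) :
    PicAux.BC.bSec B (f' := h) ⊤ b = Coh.toGlobal h b := by
  simp [PicAux.BC.bSec, Groth.QCohMod.resFun]
  rfl

/-- The sections of an invertible module trivial on the generic fibre form a free module of rank one. -/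
theorem exists_generator [IsProper f] [Flat f] [LocallyOfFinitePresentation f]
    {L : X.Modules} (hL : PicF.IsInvertible L) (K : Type u) [Field K] [Algebra A K] [IsFractionRing A K]
    {XK : Scheme.{u}} (g : XK ⟶ X) (f' : XK ⟶ Spec (CommRingCat.of K))
    (hp : IsPullback g f' f (Spec.map (CommRingCat.ofHom (algebraMap A K))))
    (triv : (Scheme.Modules.pullback g).obj L ≅ Coh.structureModule XK)
    (h0 : Function.Bijective (Coh.toGlobal f')) :
    ∃ s : Γ(L, ⊤), s ≠ 0 ∧ (∀ t : Γ(L, ⊤), ∃ a : A, t = secMap f ⊤ a • s) ∧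
      ∀ (a : A) (t : Γ(L, ⊤)), a ≠ 0 → secMap f ⊤ a • t = 0 → t = 0 := by
  let AA := CommRingCat.of A
  let ff : X ⟶ (fgCone AA).pt := f
  haveI : IsProper ff := ‹IsProper f›
  haveI : LocallyOfFinitePresentation ff := ‹LocallyOfFinitePresentation f›
  haveI : L.IsQuasicoherent := PicAux.isQCoh_of_isInvertible hL
  haveI : ∀ i, IsAffine ((fgSchemes AA).obj i) := fun i => inferInstanceAs (IsAffine (Spec _))
  haveI := isCofiltered_fgSub AA
  obtain ⟨i, M, F₀, hq, hfp, hpr, ⟨e⟩, hfl⟩ := Groth.LimitMod.exists_proper_flat_stage (isLimitFgCone AA)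
    (f := ff) L (PicAux.FibTrivClosed.isFP_of_isInvertible hL) (PicAux.Seesaw.isFlatOver_of_isInvertible f hL)
  let A₀ := ↥i.unop.1
  haveI : Algebra.FiniteType ℤ A₀ := i.unop.1.fg_iff_finiteType.1 i.unop.2
  haveI : IsNoetherianRing A₀ := Algebra.FiniteType.isNoetherianRing ℤ _
  letI : M.obj.Over (Spec (CommRingCat.of A₀)) := ⟨M.hom⟩
  haveI : IsProper (M.obj ↘ Spec (CommRingCat.of A₀)) := hpr
  obtain ⟨Q, _, θ₀, -, -, hθ⟩ := PicAux.BC.exists_rep A₀ (X := M.obj) (F := F₀)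
    ⟨hq, Groth.PropsBasic.LocFree.isFT_of_isFP F₀ hfp⟩ hfl
  have hpA : IsPullback M.map f (M.obj ↘ Spec (CommRingCat.of A₀))
      (Spec.map (CommRingCat.ofHom (algebraMap A₀ A))) := M.sq
  have hpK : IsPullback (g ≫ M.map) f' (M.obj ↘ Spec (CommRingCat.of A₀))
      (Spec.map (CommRingCat.ofHom (algebraMap A₀ K))) := by
    have := hp.paste_horiz hpA
    rwa [← Spec.map_comp] at this
  obtain ⟨θA, hθA, hθAl, -⟩ := hθ A X M.map f hpA
  obtain ⟨θK, hθK, hθKl, -⟩ := hθ K XK (g ≫ M.map) f' hpK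
  let eK : (Scheme.Modules.pullback (g ≫ M.map)).obj F₀ ≅ Coh.structureModule XK :=
    ((Scheme.Modules.pullbackComp g M.map).app F₀).symm ≪≫ (Scheme.Modules.pullback g).mapIso e ≪≫ triv
  -- the two descriptions
  let ΘA : (Q →ₗ[A₀] A) → Γ(L, ⊤) := fun φ => e.hom.app ⊤ (θA φ)
  let ΘK : (Q →ₗ[A₀] K) → Γ(XK, ⊤) := fun φ => eK.hom.app ⊤ (θK φ)
  have hΘA : Function.Bijective ΘA := (ConcreteCategory.bijective_of_isIso (e.hom.app ⊤)).comp hθA
  have hΘK : Function.Bijective ΘK := (ConcreteCategory.bijective_of_isIso (eK.hom.app ⊤)).comp hθK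
  have hΘAl : ∀ (a : A) (φ : Q →ₗ[A₀] A), ΘA (LinearMap.mulLeft A₀ a ∘ₗ φ) = secMap f ⊤ a • ΘA φ := by
    intro a φ
    refine (congrArg (e.hom.app ⊤) ((hθAl a φ).trans (congrArg (· • θA φ) ((bSec_top f a).trans (secMap_top f a).symm)))).trans ?_
    exact Scheme.Modules.Hom.app_smul _ _ _
  have hΘKl : ∀ (b : K) (φ : Q →ₗ[A₀] K), ΘK (LinearMap.mulLeft A₀ b ∘ₗ φ) = secMap f' ⊤ b * ΘK φ := by
    intro b φ
    refine (congrArg (eK.hom.app ⊤) ((hθKl b φ).trans (congrArg (· • θK φ) ((bSec_top f' b).trans (secMap_top f' b).symm)))).trans ?_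
    exact Scheme.Modules.Hom.app_smul _ _ _
  have hzero : ΘA 0 = 0 := by
    have h := hΘAl 0 0
    rw [LinearMap.comp_zero, map_zero, zero_smul] at h
    exact h
  have hzeroK : ΘK 0 = 0 := by
    have h := hΘKl 0 0
    rw [LinearMap.comp_zero, map_zero, zero_mul] at h
    exact h
  obtain ⟨ψ, hψ⟩ := hΘK.2 1
  haveI : Nontrivial Γ(XK, ⊤) := h0.1.nontrivial
  have hψ0 : ψ ≠ 0 := fun h => one_ne_zero (α := Γ(XK, ⊤)) (by rw [← hψ, h, hzeroK])
  obtain ⟨φ₀, hφ₀, hgen⟩ := exists_hom_generator (A := A) (K := K) ψ hψ0 fun φ => by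
    obtain ⟨b, hb⟩ := h0.2 (ΘK φ)
    exact ⟨b, hΘK.1 (by rw [hΘKl, hψ, mul_one, secMap_top, hb])⟩
  refine ⟨ΘA φ₀, fun h => hφ₀ (hΘA.1 (h.trans hzero.symm)), fun t => ?_, fun a t ha ht => ?_⟩
  · obtain ⟨φ, rfl⟩ := hΘA.2 t
    obtain ⟨a, rfl⟩ := hgen φ
    exact ⟨a, hΘAl a φ₀⟩
  · obtain ⟨φ, rfl⟩ := hΘA.2 t
    rw [← hΘAl, ← hzero] at ht
    have h := hΘA.1 ht
    have : φ = 0 := LinearMap.ext fun x => (mul_eq_zero.1 (LinearMap.congr_fun h x)).resolve_left ha
    rw [this, hzero]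

end Groth.Misc12.ValTrivial
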